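import Mathlib
/-!
Isomorphisms of uncountable algebraically closed fields over a countable subring.
-/

set_option autoImplicit false
set_option linter.style.haveILetI false

universe u

open Cardinal

namespace Groth.Agent.GenFibreIso

theorem exists_iso_over {R K L : Type u} [CommRing R] [Nontrivial R] [Countable R] [Field K] [Field L]
    [IsAlgClosed K] [IsAlgClosed L] (f : R →+* K) (g : R →+* L) (hf : Function.Injective f)
    (hg : Function.Injective g) (hK : ℵ₀ < #K) (hKL : #K = #L) :
    ∃ e : K ≃+* L, ∀ r, e (f r) = g r := by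
  letI := f.toAlgebra
  letI := g.toAlgebra
  haveI : FaithfulSMul R K := (faithfulSMul_iff_algebraMap_injective R K).mpr hf
  haveI : FaithfulSMul R L := (faithfulSMul_iff_algebraMap_injective R L).mpr hg
  haveI : IsDomain R := hf.isDomain f
  obtain ⟨s, hs⟩ := exists_isTranscendenceBasis R K
  obtain ⟨t, ht⟩ := exists_isTranscendenceBasis R L
  have h1 := IsAlgClosed.cardinal_eq_cardinal_transcendence_basis_of_aleph0_lt' _ hs mk_le_aleph0 hK
  have h2 := IsAlgClosed.cardinal_eq_cardinal_transcendence_basis_of_aleph0_lt' _ ht mk_le_aleph0 (hKL ▸ hK)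
  obtain ⟨σ⟩ := Cardinal.eq.mp (h1.symm.trans (hKL.trans h2))
  letI := IsAlgClosed.isAlgClosure_of_transcendence_basis _ hs
  letI := IsAlgClosed.isAlgClosure_of_transcendence_basis _ ht
  let ea : Algebra.adjoin R (Set.range ((↑) : s → K)) ≃ₐ[R] Algebra.adjoin R (Set.range ((↑) : t → L)) :=
    hs.1.aevalEquiv.symm.trans ((MvPolynomial.renameEquiv R σ).trans ht.1.aevalEquiv)
  refine ⟨IsAlgClosure.equivOfEquiv K L ea.toRingEquiv, fun r => ?_⟩
  show IsAlgClosure.equivOfEquiv K L ea.toRingEquiv (algebraMap R K r) = algebraMap R L r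
  rw [IsScalarTower.algebraMap_apply R (Algebra.adjoin R (Set.range ((↑) : s → K))) K,
    IsAlgClosure.equivOfEquiv_algebraMap,
    IsScalarTower.algebraMap_apply R (Algebra.adjoin R (Set.range ((↑) : t → L))) L]
  exact congrArg _ (ea.commutes r)

end Groth.Agent.GenFibreIso
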